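import Cfsg.Agent.H892.EP.Rows
import Cfsg.Agent.H664.Eight.U3
import Cfsg.Agent.H611.CoverPrincipal
import Cfsg.Agent.S0165

/-!
# S4929: the row of `PSU(3,q)`, `q ≥ 3`

* `evAt_down` : going down to normal subgroups of odd index;
* `evAt_of_real` : a real `p`-element of a central quotient whose preimage has an abelian centralizer
  (primes dividing `q - 1` in `PGU(3,q)` and `q + 1` in `PSU(3,q)`);
* `mem_of_const`, `mem_of_selfcent` : characters which are constant and non-zero on a `p`-section;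
* `evAt_of_steinberg` : split BN pairs of rank one with `p` prime to `|B|` and `|U|` even;
* `evAt_PG_odd` : `p ∣ q² - q + 1`, `q` odd: otherwise every character of the principal block has `U`-fixed vectors, and the
  orthogonality relation of the block between a regular unipotent and a `p`-singular element fails;
* `row_psu3` : the row.
-/

set_option autoImplicit false
set_option linter.unusedSectionVars false
set_option linter.unusedSimpArgs false

open scoped ComplexConjugate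
open Cfsg Cfsg.Agent.Characters.Core Cfsg.Agent.H892.EP

namespace Cfsg.Agent.H906.EP

universe u v

section gen

variable {p : ℕ} [Fact p.Prime]

/-- going down to normal subgroups of odd index -/
theorem evAt_down {G : Type u} [Group G] [Finite G] (N : Subgroup G) [N.Normal] (hodd : Odd N.index)
    (h : EvAt p G) : EvAt p N := by
  intro M hM
  have := Fintype.ofFinite G
  have := Fintype.ofFinite N
  obtain ⟨χ, hχ, h2⟩ := h M hM
  have hc : IsCharacter N (fun n : N => (χ : G → ℂ) n) := isCharacter_comp N.subtype (isIrr_isCharacter χ.2)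
  have hne : (fun n : N => (χ : G → ℂ) n) ≠ 0 := by
    intro h0
    exact isIrr_apply_one_ne_zero χ.2 (congrFun h0 1)
  obtain ⟨θ, hθ, hover⟩ := Cfsg.Agent.H113.NormTwoChar.exists_constituent hc hne
  refine ⟨⟨θ, hθ⟩, Cfsg.Agent.H611.CoverPrincipal.mem_principalBlock_of_over p hM N χ ⟨θ, hθ⟩ hover hχ, ?_⟩
  obtain ⟨h3, h4⟩ := Cfsg.Agent.S0887.result N (χ : G → ℂ) χ.2 θ hθ hover _ _
    (Cfsg.Agent.Blocks.Basic.irr_one_eq_charDegree χ.2) (Cfsg.Agent.Blocks.Basic.irr_one_eq_charDegree hθ)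
  obtain ⟨c, hc'⟩ := h3
  have hpos : 0 < charDegree θ := by
    obtain ⟨n, hn0, hn⟩ := isIrr_apply_one hθ
    rw [Cfsg.Agent.Blocks.Basic.charDegree_of_eq hn]
    exact hn0
  rw [hc', Nat.mul_div_cancel_left _ hpos] at h4
  rw [hc'] at h2
  have h5 : Odd c := Odd.of_dvd_nat hodd h4
  show 2 ∣ charDegree θ
  exact (Nat.Coprime.dvd_of_dvd_mul_right (Nat.coprime_two_left.2 h5) h2)

/-- a criterion for a normal `p`-complement -/
theorem index_of_abelian {H : Type u} [Group H] [Finite H] (D : Subgroup H) (hDn : D.Normal)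
    (hab : ∀ a ∈ D, ∀ b ∈ D, a * b = b * a) (hpow : ∀ h : H, h ^ p ∈ D) :
    ∃ k : ℕ, (pPrimeCore p H).index = p ^ k := by
  have hp : p.Prime := Fact.out
  let K : Subgroup H :=
    { carrier := {x | x ∈ D ∧ Nat.Coprime (orderOf x) p}
      one_mem' := ⟨D.one_mem, by rw [orderOf_one]; exact Nat.coprime_one_left p⟩
      mul_mem' := by
        rintro a b ⟨ha, ha'⟩ ⟨hb, hb'⟩
        refine ⟨D.mul_mem ha hb, ?_⟩
        have h1 : Commute a b := hab a ha b hb
        exact Nat.Coprime.coprime_dvd_left h1.orderOf_mul_dvd_mul_orderOf (Nat.Coprime.mul_left ha' hb')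
      inv_mem' := by
        rintro a ⟨ha, ha'⟩
        exact ⟨D.inv_mem ha, by rw [orderOf_inv]; exact ha'⟩ }
  have hKmem : ∀ x, x ∈ K ↔ x ∈ D ∧ Nat.Coprime (orderOf x) p := fun x => Iff.rfl
  have hKn : K.Normal := ⟨fun x hx g => by
    refine ⟨hDn.conj_mem x hx.1 g, ?_⟩
    have : orderOf (g * x * g⁻¹) = orderOf x := (MulAut.conj g).orderOf_eq x
    rw [this]
    exact hx.2⟩
  have hKc : (Nat.card K).Coprime p := by
    rw [Nat.coprime_comm, hp.coprime_iff_not_dvd]
    intro hd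
    obtain ⟨x, hx⟩ := exists_prime_orderOf_dvd_card' p hd
    have h1 := x.2.2
    rw [Subgroup.orderOf_coe, hx, Nat.coprime_self] at h1
    exact hp.one_lt.ne' h1
  have hle := Cfsg.Agent.Lib.HallHigman.le_pPrimeCore hKn hKc
  have hN : (pPrimeCore p H).Normal := Cfsg.Agent.Lib.Cores.pPrimeCore_normal p
  have hP : IsPGroup p (H ⧸ pPrimeCore p H) := by
    intro x
    obtain ⟨h, rfl⟩ := QuotientGroup.mk'_surjective _ x
    have hD := hpow h
    obtain ⟨k, m, hm, hkm⟩ := Nat.exists_eq_pow_mul_and_not_dvd (orderOf_pos (h ^ p)).ne' p hp.one_lt.ne'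
    refine ⟨k + 1, ?_⟩
    rw [← map_pow]
    have h1 : h ^ p ^ (k + 1) ∈ K := by
      rw [pow_succ', pow_mul]
      refine ⟨D.pow_mem hD _, ?_⟩
      rw [orderOf_pow, hkm, Nat.gcd_eq_right (Dvd.intro _ rfl), Nat.mul_div_cancel_left _ (pow_pos hp.pos k)]
      exact ((Nat.Prime.coprime_iff_not_dvd hp).2 hm).symm
    exact (QuotientGroup.eq_one_iff _).2 (hle h1)
  obtain ⟨k, hk⟩ := IsPGroup.iff_card.1 hP
  exact ⟨k, hk⟩

/-- **the real criterion** in a central quotient -/
theorem evAt_of_real {G : Type u} {Q : Type v} [Group G] [Group Q] [Finite Q] (hp2 : p ≠ 2)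
    (pr : G →* Q) (hpr : Function.Surjective pr) (hc : ∀ x ∈ pr.ker, ∀ g : G, x * g = g * x) (Z : G)
    (hZ : Z ^ p = 1) (hZ1 : pr Z ≠ 1)
    (hab : ∀ a b : G, a * Z = Z * a → b * Z = Z * b → a * b = b * a) (hr : IsConj (pr Z) (pr Z)⁻¹) :
    EvAt p Q := by
  intro M hM
  have hp : p.Prime := Fact.out
  have hz : orderOf (pr Z) = p := by
    refine orderOf_eq_prime ?_ hZ1
    rw [← map_pow, hZ, map_one]
  refine Cfsg.Agent.H809.Evn.exists_even_of_real hM hp2 (pr Z) ⟨1, by rw [hz, pow_one]⟩ hZ1 hr rfl ?_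
  set H := Subgroup.centralizer ({pr Z} : Set Q) with hH
  -- lifts of elements of `H`
  have key : ∀ V : G, pr V * pr Z = pr Z * pr V → ∃ κ : G, (∀ g, κ * g = g * κ) ∧ V * Z = κ * Z * V := by
    intro V hV
    refine ⟨V * Z * V⁻¹ * Z⁻¹, hc _ ?_, by group⟩
    rw [MonoidHom.mem_ker, map_mul, map_mul, map_mul, hV, map_inv, map_inv]
    group
  refine index_of_abelian (((Subgroup.centralizer ({Z} : Set G)).map pr).subgroupOf H) ?_ ?_ ?_
  · refine ⟨fun x hx g => ?_⟩
    rw [Subgroup.mem_subgroupOf] at hx ⊢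
    obtain ⟨X, hX, hXx⟩ := hx
    obtain ⟨V, hV⟩ := hpr (g : Q)
    have hg := Subgroup.mem_centralizer_singleton_iff.1 g.2
    rw [← hV] at hg
    obtain ⟨κ, hκ, hVZ⟩ := key V hg
    refine ⟨V * X * V⁻¹, ?_, ?_⟩
    · have hX' : X * Z = Z * X := Subgroup.mem_centralizer_singleton_iff.1 hX
      refine Subgroup.mem_centralizer_singleton_iff.2 ?_
      have h1 : V⁻¹ * Z = κ⁻¹ * (Z * V⁻¹) := by
        have h2 : Z = κ⁻¹ * (V * Z * V⁻¹) := by rw [hVZ]; group
        calc V⁻¹ * Z = V⁻¹ * (κ⁻¹ * (V * Z * V⁻¹)) := by rw [← h2]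
          _ = V⁻¹ * κ⁻¹ * κ⁻¹⁻¹ * κ⁻¹ * (V * Z * V⁻¹) := by group
          _ = (κ * V)⁻¹ * κ⁻¹⁻¹ * κ⁻¹ * (V * Z * V⁻¹) := by group
          _ = (V * κ)⁻¹ * κ⁻¹⁻¹ * κ⁻¹ * (V * Z * V⁻¹) := by rw [hκ V]
          _ = κ⁻¹ * (Z * V⁻¹) := by group
      have hκi : ∀ g, κ⁻¹ * g = g * κ⁻¹ := fun g => by
        have := hκ g
        calc κ⁻¹ * g = κ⁻¹ * (g * κ) * κ⁻¹ := by group
          _ = κ⁻¹ * (κ * g) * κ⁻¹ := by rw [hκ g]
          _ = g * κ⁻¹ := by group
      calc V * X * V⁻¹ * Z = V * X * (V⁻¹ * Z) := by group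
        _ = V * X * (κ⁻¹ * (Z * V⁻¹)) := by rw [h1]
        _ = V * X * κ⁻¹ * Z * V⁻¹ := by group
        _ = κ⁻¹ * (V * X) * Z * V⁻¹ := by rw [hκi]
        _ = κ⁻¹ * V * (X * Z) * V⁻¹ := by group
        _ = κ⁻¹ * V * (Z * X) * V⁻¹ := by rw [hX']
        _ = κ⁻¹ * (V * Z) * X * V⁻¹ := by group
        _ = κ⁻¹ * (κ * Z * V) * X * V⁻¹ := by rw [hVZ]
        _ = Z * (V * X * V⁻¹) := by group
    · rw [map_mul, map_mul, map_inv, hV, hXx]
      rfl
  · intro a ha b hb
    rw [Subgroup.mem_subgroupOf] at ha hb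
    obtain ⟨A, hA, hAa⟩ := ha
    obtain ⟨B, hB, hBb⟩ := hb
    apply Subtype.ext
    rw [Subgroup.coe_mul, Subgroup.coe_mul, ← hAa, ← hBb, ← map_mul, ← map_mul,
      hab A B (Subgroup.mem_centralizer_singleton_iff.1 hA) (Subgroup.mem_centralizer_singleton_iff.1 hB)]
  · intro h
    rw [Subgroup.mem_subgroupOf]
    obtain ⟨V, hV⟩ := hpr (h : Q)
    have hg := Subgroup.mem_centralizer_singleton_iff.1 h.2
    rw [← hV] at hg
    obtain ⟨κ, hκ, hVZ⟩ := key V hg
    refine ⟨V ^ p, ?_, ?_⟩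
    · refine Subgroup.mem_centralizer_singleton_iff.2 ?_
      have hκ' : ∀ g, Commute κ g := hκ
      -- `κ ^ p = 1`
      have h1 : V * Z * V⁻¹ = κ * Z := by rw [hVZ]; group
      have h2 : κ ^ p = 1 := by
        have h3 : (V * Z * V⁻¹) ^ p = 1 := by rw [conj_pow, hZ]; group
        rw [h1, (hκ' Z).mul_pow, hZ, mul_one] at h3
        exact h3
      have h3 : ∀ n : ℕ, V ^ n * Z = κ ^ n * Z * V ^ n := by
        intro n
        induction n with
        | zero => simp
        | succ n ih =>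
          calc V ^ (n + 1) * Z = V ^ n * (V * Z) := by rw [pow_succ]; group
            _ = V ^ n * (κ * Z * V) := by rw [hVZ]
            _ = (V ^ n * κ) * Z * V := by group
            _ = (κ * V ^ n) * Z * V := by rw [hκ]
            _ = κ * (V ^ n * Z) * V := by group
            _ = κ * (κ ^ n * Z * V ^ n) * V := by rw [ih]
            _ = κ ^ (n + 1) * Z * V ^ (n + 1) := by rw [pow_succ' κ n, pow_succ V n]; group
      rw [h3 p, h2, one_mul]
    · rw [map_pow, hV]
      rfl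

end gen


section blk

variable {p : ℕ} [hp : Fact p.Prime] {M : Ideal AlgInt}

/-- a character with constant non-zero value on some `p`-section -/
theorem mem_of_const {G : Type u} [Group G] [Finite G] (hM : IsPModular p M) (χ : IrrCharacter G) (u : G) {c : ℂ}
    (hc : c ≠ 0) (hu : ∃ k, orderOf u = p ^ k)
    (h : ∀ x z, IsPPart p x z → IsConj u z → (χ : G → ℂ) x = c) : χ ∈ principalBlock M G := by
  classical
  refine mem_of_section_sum hM χ u ?_
  rw [finsum_mem_eq_finite_toFinset_sum _ (Set.toFinite _), Finset.sum_congr rfl (g := fun _ => c) ?_,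
    Finset.sum_const, nsmul_eq_mul]
  · refine mul_ne_zero ?_ hc
    rw [Nat.cast_ne_zero, Finset.card_ne_zero]
    refine ⟨u, ?_⟩
    rw [Set.Finite.mem_toFinset]
    exact ⟨u, ⟨1, mul_one u, Commute.one_right u, hu, by
      rw [orderOf_one]; exact fun h => hp.out.one_lt.ne' (Nat.dvd_one.1 h)⟩, IsConj.refl u⟩
  · intro x hx
    rw [Set.Finite.mem_toFinset] at hx
    obtain ⟨z, hz, hz'⟩ := hx
    exact h x z hz hz'

/-- a character which does not vanish at a `p`-element whose centralizer is a `p`-group -/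
theorem mem_of_selfcent {G : Type u} [Group G] [Finite G] (hM : IsPModular p M) (χ : IrrCharacter G) (u : G)
    (hu : ∃ k, orderOf u = p ^ k) (hc : ∀ s, s * u = u * s → ¬ p ∣ orderOf s → s = 1)
    (hχ : (χ : G → ℂ) u ≠ 0) : χ ∈ principalBlock M G := by
  refine mem_of_const hM χ u hχ hu fun x z hx hz => ?_
  obtain ⟨s, hs, hcom, hk, hps⟩ := hx
  obtain ⟨g, rfl⟩ := isConj_iff.1 hz
  have h1 : g⁻¹ * s * g = 1 := by
    refine hc _ ?_ ?_
    · have h2 : g * u * g⁻¹ * s = s * (g * u * g⁻¹) := hcom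
      calc g⁻¹ * s * g * u = g⁻¹ * (s * (g * u * g⁻¹)) * g := by group
        _ = g⁻¹ * (g * u * g⁻¹ * s) * g := by rw [h2]
        _ = u * (g⁻¹ * s * g) := by group
    · have : orderOf (g⁻¹ * s * g) = orderOf s := by
        have := (MulAut.conj g⁻¹).orderOf_eq s
        rw [MulAut.conj_apply, inv_inv] at this
        exact this
      rw [this]
      exact hps
  have h2 : s = 1 := by
    have : s = g * (g⁻¹ * s * g) * g⁻¹ := by group
    rw [this, h1]
    group
  rw [← hs, h2, mul_one]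
  exact isIrr_isClassFunction χ.2 u g

/-- the order of an element is divisible by `p` if its `p`-part is non-trivial -/
theorem dvd_orderOf_of_ppart {G : Type u} [Group G] {x z : G} (h : IsPPart p x z) (hz : z ≠ 1) : p ∣ orderOf x := by
  obtain ⟨s, hs, hcom, ⟨k, hk⟩, hps⟩ := h
  have hco : (orderOf z).Coprime (orderOf s) := by
    rw [hk]
    exact Nat.Coprime.pow_left k ((Nat.Prime.coprime_iff_not_dvd hp.out).2 hps)
  rw [← hs, hcom.orderOf_mul_eq_mul_orderOf_of_coprime hco, hk]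
  refine Dvd.dvd.mul_right (dvd_pow_self p ?_) _
  rintro rfl
  rw [pow_zero, orderOf_eq_one_iff] at hk
  exact hz hk

end blk

section ps

open Cfsg.Agent.H664.R1

variable {G : Type u} [Group G] [Fintype G] (D : Split G)

/-- A character with `U`-fixed vectors is a constituent of the principal series. -/
theorem exists_ps_of_fixed [Fintype D.U] {χ : G → ℂ} (hχ : IsIrrCharacter G χ)
    (h : classInner (fun u : D.U => χ u) 1 ≠ 0) :
    ∃ f : D.B →* ℂˣ, (∀ b : D.B, (b : G) ∈ D.U → f b = 1) ∧ classInner (D.ps f) χ ≠ 0 := by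
  classical
  have := Fintype.ofFinite D.B
  have : Finite (IrrCharacter D.B) := finite_irr
  have := Fintype.ofFinite (IrrCharacter D.B)
  have hN : (D.U.subgroupOf D.B).Normal := ⟨fun n hn g => by
    rw [Subgroup.mem_subgroupOf] at hn ⊢
    exact D.nU g g.2 n hn⟩
  have := Fintype.ofFinite (D.U.subgroupOf D.B)
  have hc : IsCharacter D.B (fun b : D.B => χ b) := isCharacter_comp D.B.subtype (isIrr_isCharacter hχ)
  obtain ⟨m, hm⟩ := exists_nat_comb hc
  -- the sum over `U`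
  have hsum : ∑ u : D.U.subgroupOf D.B, χ ((u : D.B) : G) ≠ 0 := by
    intro h0
    apply h
    rw [classInner_def]
    simp only [Pi.one_apply, map_one, mul_one]
    have h1 : ∑ u : D.U, χ u = ∑ u : D.U.subgroupOf D.B, χ ((u : D.B) : G) :=
      (Fintype.sum_equiv (Subgroup.subgroupOfEquivOfLe D.UB).toEquiv _ _ fun u => rfl).symm
    rw [h1, h0, mul_zero]
  obtain ⟨θ, hθm, hθ⟩ : ∃ θ : IrrCharacter D.B, m θ ≠ 0 ∧ ∑ u : D.U.subgroupOf D.B, (θ : D.B → ℂ) u ≠ 0 := by
    by_contra hcon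
    push Not at hcon
    apply hsum
    have h1 : ∀ u : D.U.subgroupOf D.B, χ ((u : D.B) : G) = ∑ ψ : IrrCharacter D.B, (m ψ : ℂ) * (ψ : D.B → ℂ) u := by
      intro u
      have h2 := congrFun hm (u : D.B)
      rw [Finset.sum_apply] at h2
      simp only [Pi.smul_apply, nsmul_eq_mul] at h2
      exact h2
    rw [Finset.sum_congr rfl fun u _ => h1 u, Finset.sum_comm]
    refine Finset.sum_eq_zero fun ψ _ => ?_
    rw [← Finset.mul_sum]
    by_cases h3 : m ψ = 0
    · rw [h3, Nat.cast_zero, zero_mul]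
    · rw [hcon ψ h3, mul_zero]
  obtain ⟨θ', hθ'⟩ := Blocks.Deflate.exists_deflation (D.U.subgroupOf D.B) (θ : D.B → ℂ) θ.2 hθ
  -- the quotient is abelian
  have hab : IsMulCommutative (D.B ⧸ D.U.subgroupOf D.B) := by
    refine ⟨⟨fun a b => ?_⟩⟩
    obtain ⟨a, rfl⟩ := QuotientGroup.mk_surjective a
    obtain ⟨b, rfl⟩ := QuotientGroup.mk_surjective b
    have key : ∀ a : D.B, ∃ t ∈ D.T, ∃ ht : t ∈ D.B, (QuotientGroup.mk a : D.B ⧸ D.U.subgroupOf D.B) =
        QuotientGroup.mk (⟨t, ht⟩ : D.B) := by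
      rintro ⟨a, ha⟩
      obtain ⟨u, hu, t, ht, rfl⟩ := D.dec a ha
      refine ⟨t, ht, D.TB ht, ?_⟩
      symm
      rw [QuotientGroup.eq, Subgroup.mem_subgroupOf]
      show t⁻¹ * (u * t) ∈ D.U
      rw [← mul_assoc]
      exact D.nU' (D.TB ht) hu
    obtain ⟨s, hs, hsB, h1⟩ := key a
    obtain ⟨t, ht, htB, h2⟩ := key b
    rw [h1, h2]
    show (QuotientGroup.mk (⟨s, hsB⟩ * ⟨t, htB⟩ : D.B) : D.B ⧸ D.U.subgroupOf D.B) =
      QuotientGroup.mk (⟨t, htB⟩ * ⟨s, hsB⟩ : D.B)
    congr 1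
    exact Subtype.ext (D.comm s hs t ht)
  have h1 : (θ' : D.B ⧸ D.U.subgroupOf D.B → ℂ) 1 = 1 := by
    obtain ⟨n, ρ, hρ, h2⟩ := θ'.2
    have h := Representation.IsIrreducible.finrank_eq_one_of_isMulCommutative ρ
    have h3 : ρ.character 1 = 1 := by
      rw [Representation.char_one, h]
      simp
    rw [← h3, h2]
  obtain ⟨f', hf'⟩ := Cfsg.Agent.Characters.Linear.exists_hom_of_isIrrCharacter θ'.2 h1
  refine ⟨f'.comp (QuotientGroup.mk' (D.U.subgroupOf D.B)), ?_, ?_⟩
  · intro b hb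
    show f' (QuotientGroup.mk b) = 1
    rw [(QuotientGroup.eq_one_iff b).2 (Subgroup.mem_subgroupOf.2 hb), map_one]
  · have h2 : (fun b : D.B => ((f'.comp (QuotientGroup.mk' (D.U.subgroupOf D.B))) b : ℂ)) = (θ : D.B → ℂ) := by
      rw [hθ', hf']
      rfl
    rw [D.inner_ps _ hχ, h2, ← classInner_conj_symm, Ne, map_eq_zero, hm]
    have h3 := classInner_sum_smul_irr (fun ψ : IrrCharacter D.B => (m ψ : ℂ)) θ
    simp only [Nat.cast_smul_eq_nsmul] at h3
    rw [h3]
    exact_mod_cast hθm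

/-- The principal series vanishes at the elements whose order is divisible by a prime not dividing `|B|`. -/
theorem ps_sing {p : ℕ} (f : D.B →* ℂˣ) {x : G} (hx : p ∣ orderOf x) (hB : ¬ p ∣ Nat.card D.B) : D.ps f x = 0 := by
  classical
  rw [D.ps_def, OddOrderCharacters.Clifford.indFun_apply]
  refine mul_eq_zero_of_right _ (Finset.sum_eq_zero fun g _ => ?_)
  refine OddOrderCharacters.Clifford.ext_apply_not_mem D.B _ _ fun h => hB ?_
  have h1 : orderOf (g⁻¹ * x * g) = orderOf x := by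
    have := (MulAut.conj g⁻¹).orderOf_eq x
    rw [MulAut.conj_apply, inv_inv] at this
    exact this
  rw [← h1] at hx
  exact hx.trans (Subgroup.orderOf_dvd_natCard _ h)

/-- The Steinberg character is in the principal block (`p` prime to `|B|`). -/
theorem evAt_of_steinberg {p : ℕ} [hp : Fact p.Prime] (hB : ¬ p ∣ Nat.card D.B) (hd : p ∣ Nat.card G)
    (h2 : 2 ∣ Nat.card D.U) : EvAt p G := by
  intro M hM
  obtain ⟨χ, hχ⟩ := D.exists_steinberg
  obtain ⟨u, hu⟩ := exists_prime_orderOf_dvd_card' (G := G) p hd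
  have hu1 : u ≠ 1 := by
    rintro rfl
    rw [orderOf_one] at hu
    exact hp.out.one_lt.ne hu
  refine ⟨χ, mem_of_const hM χ u (c := -1) (by norm_num) ⟨1, by rw [hu, pow_one]⟩ ?_, ?_⟩
  · intro x z hxz hz
    have hz1 : z ≠ 1 := by
      rintro rfl
      exact hu1 ((isConj_one_right.1 hz.symm))
    have h3 := congrFun hχ x
    rw [ps_sing D 1 (dvd_orderOf_of_ppart hxz hz1) hB, Pi.add_apply, Pi.one_apply] at h3
    linear_combination -h3
  · have h3 := congrFun hχ 1
    rw [D.ps_one, Pi.add_apply, Pi.one_apply] at h3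
    have h4 : (χ : G → ℂ) 1 = ((Nat.card D.U : ℕ) : ℂ) := by linear_combination -h3
    rw [Cfsg.Agent.Blocks.Basic.charDegree_of_eq h4]
    exact h2

omit [Fintype G] in
theorem irr_zero_of_dz [Finite G] {p : ℕ} [hp : Fact p.Prime] {χ : G → ℂ} (hχ : IsIrrCharacter G χ) {n : ℕ}
    (hn : χ 1 = n) (h : p ^ (Nat.card G).factorization p ∣ n) {x : G} (hx : p ∣ orderOf x) : χ x = 0 := by
  obtain ⟨m, ρ, hρ, rfl⟩ := hχ
  rw [Representation.char_one] at hn
  have hn' : Module.finrank ℂ (Fin m → ℂ) = n := by exact_mod_cast hn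
  refine Cfsg.Agent.S0165.result ρ p ((Nat.card G).factorization p) hp.out (Nat.ordProj_dvd _ _)
    (Nat.pow_succ_factorization_not_dvd Nat.card_pos.ne' hp.out) ?_ x hx
  rw [hn']
  exact h

end ps


section model

open Matrix Cfsg.Agent.LieRecognition.PSUThreeSylow Cfsg.Agent.LieClassical.HermBasic
  Cfsg.Agent.H664.R1 Cfsg.Agent.H664.R1.U3

variable {F : Type*} [Field F] {σ : F →+* F} [hσ : Fact (∀ x, σ (σ x) = x)]

theorem mul_Sc (A : GUJ σ) {z : GUJ σ} (hz : z ∈ Sc σ) (i j : Fin 3) :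
    mat σ (A * z) i j = mat σ A i j * mat σ z 1 1 := by
  obtain ⟨⟨⟨a1, a2, a3⟩, a4, a5, a6⟩, h1, h2⟩ := hz
  rw [mul_entry]
  fin_cases j <;> simp [a1, a2, a3, a4, a5, a6, h1, h2]

/-- The elements commuting with a regular unipotent element are unipotent. -/
theorem mem_U_of_comm {u x : PG σ} (hu : u ∈ (spP σ).U) (huX : u ∉ XP σ) (h : x * u = u * x) :
    x ∈ (spP σ).U := by
  have hu1 : u ≠ 1 := by
    rintro rfl
    exact huX (XP σ).one_mem
  by_cases hx : x ∈ (spP σ).B
  swap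
  · exfalso
    obtain ⟨⟨v, b⟩, hvb⟩ := (spP σ).cellEquiv.surjective ⟨x, hx⟩
    have h1 : (v : PG σ) * (spP σ).w * b = x := congrArg Subtype.val hvb
    apply hu1
    refine (spP σ).eq_one_of_conj b.2 v.2 hu ?_
    rw [h1, mul_assoc, ← h, inv_mul_cancel_left]
    exact (spP σ).UB hu
  obtain ⟨v, hv, t, ht, rfl⟩ := (spP σ).dec x hx
  obtain ⟨s, rfl⟩ := exists_del ht
  obtain ⟨u, hu', rfl⟩ := hu
  obtain ⟨a, b, hab, rfl⟩ := exists_un hu'
  obtain ⟨v, hv', rfl⟩ := hv
  obtain ⟨a1, b1, hab1, rfl⟩ := exists_un hv'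
  have ha : a ≠ 0 := by
    rintro rfl
    exact huX ⟨_, ⟨un_mem _ _ _, rfl⟩, rfl⟩
  have hrel : (1 : F) * σ 1 = 1 := by rw [map_one, one_mul]
  rw [del_apply, ← map_mul, ← map_mul, ← map_mul] at h
  have h1 := (QuotientGroup.eq (s := Sc σ)).1 h
  set A := un a1 b1 hab1 * dg (s : F) 1 s.ne_zero hrel * un a b hab with hA
  set B := un a b hab * (un a1 b1 hab1 * dg (s : F) 1 s.ne_zero hrel) with hB
  have h2 : B = A * (A⁻¹ * B) := by group
  have e00 : mat σ B 0 0 = mat σ A 0 0 * mat σ (A⁻¹ * B) 1 1 := by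
    rw [← mul_Sc A h1, ← h2]
  have e01 : mat σ B 0 1 = mat σ A 0 1 * mat σ (A⁻¹ * B) 1 1 := by
    rw [← mul_Sc A h1, ← h2]
  have a00 : mat σ A 0 0 = s := by
    rw [hA, mul_entry, mul_entry, mul_entry, mul_entry, mat_un, mat_un, mat_dg]
    simp
  have a01 : mat σ A 0 1 = s * a + a1 := by
    rw [hA, mul_entry, mul_entry, mul_entry, mul_entry, mat_un, mat_un, mat_dg]
    simp
  have b00 : mat σ B 0 0 = s := by
    rw [hB, mul_entry, mul_entry, mul_entry, mul_entry, mat_un, mat_un, mat_dg]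
    simp
  have b01 : mat σ B 0 1 = a1 + a := by
    rw [hB, mul_entry, mul_entry, mul_entry, mul_entry, mat_un, mat_un, mat_dg]
    simp
  rw [a00, b00] at e00
  have hz : mat σ (A⁻¹ * B) 1 1 = 1 := by
    have h3 : (s : F) * mat σ (A⁻¹ * B) 1 1 = s * 1 := by rw [← e00, mul_one]
    exact mul_left_cancel₀ s.ne_zero h3
  rw [a01, b01, hz, mul_one] at e01
  have hs : (s : F) = 1 := by
    have h3 : (s : F) * a = 1 * a := by linear_combination -e01
    exact mul_right_cancel₀ ha h3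
  have hs' : s = 1 := Units.ext hs
  rw [hs', map_one, Subgroup.coe_one, mul_one]
  exact ⟨_, un_mem _ _ _, rfl⟩

variable [Fintype F] {q : ℕ}

/-- An irreducible principal series character. -/
theorem exists_noninv [Fintype (PG σ)] (hF : Fintype.card F = q ^ 2) (hq : 3 ≤ q) (hs : ∀ x, σ x = x ^ q) :
    ∃ f : (spP σ).B →* ℂˣ, (∀ b : (spP σ).B, (b : PG σ) ∈ (spP σ).U → f b = 1) ∧
      IsIrrCharacter (PG σ) ((spP σ).ps f) := by
  obtain ⟨γ, hγ⟩ := IsCyclic.exists_generator (α := Fˣ)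
  have hcard : Nat.card Fˣ = (q + 1) * (q - 1) := card_units_eq hF
  have ho : orderOf γ = (q + 1) * (q - 1) := by
    rw [orderOf_eq_card_of_forall_mem_zpowers hγ, hcard]
  have hne : γ ^ (q + 1) ≠ 1 := by
    intro h
    have h1 := orderOf_dvd_of_pow_eq_one h
    rw [ho] at h1
    have h2 := Nat.le_of_dvd (by omega) h1
    have h3 : (q + 1) * 2 ≤ (q + 1) * (q - 1) := Nat.mul_le_mul_left _ (by omega)
    omega
  obtain ⟨lam, -, hlam⟩ := OddOrderCharacters.PrimeTI.exists_hom_ne_one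
    (G := Fˣ) ⟨⟨fun a b => mul_comm a b⟩⟩ ⊥ (w := γ ^ (q + 1)) (by
      rw [Subgroup.mem_bot]
      exact hne)
  obtain ⟨f, hfU, hf⟩ := exists_linP (σ := σ) lam
  refine ⟨f, hfU, (spP σ).isIrr_ps f ?_⟩
  have hrel : (1 : F) * σ 1 = 1 := by rw [map_one, one_mul]
  have hT : ((del σ γ : (spP σ).B) : PG σ) ∈ (spP σ).T := ⟨_, dg_mem _ _ _ _, rfl⟩
  refine ⟨_, hT, ?_⟩
  have e1 : f ⟨((del σ γ : (spP σ).B) : PG σ), (spP σ).TB hT⟩ = lam γ := by
    have h1 := hf (γ : F) 1 γ.ne_zero hrel ((spP σ).TB ⟨_, dg_mem _ _ _ _, rfl⟩)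
    refine h1.trans ?_
    congr 1
    apply Units.ext
    rw [Units.val_mk0, map_one, mul_one]
  have hinv : (σ (γ : F))⁻¹ ≠ 0 := inv_ne_zero ((map_ne_zero σ).2 γ.ne_zero)
  have e2 : f ⟨(spP σ).w⁻¹ * ((del σ γ : (spP σ).B) : PG σ) * (spP σ).w, (spP σ).TB ((spP σ).wT _ hT)⟩ =
      lam (γ ^ q)⁻¹ := by
    have h1 := hf (σ (γ : F))⁻¹ 1 hinv hrel ((spP σ).TB ⟨_, dg_mem _ _ _ _, rfl⟩)
    have h2 : (⟨(spP σ).w⁻¹ * ((del σ γ : (spP σ).B) : PG σ) * (spP σ).w,
        (spP σ).TB ((spP σ).wT _ hT)⟩ : (spP σ).B) =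
        ⟨pr σ (dg (σ (γ : F))⁻¹ 1 hinv hrel), (spP σ).TB ⟨_, dg_mem _ _ _ _, rfl⟩⟩ := by
      apply Subtype.ext
      show (spP σ).w⁻¹ * ((del σ γ : (spP σ).B) : PG σ) * (spP σ).w = pr σ (dg (σ (γ : F))⁻¹ 1 hinv hrel)
      rw [← wel'_conj_dg (γ : F) 1 γ.ne_zero hrel, del_apply]
      show (pr σ (wel' σ))⁻¹ * pr σ _ * pr σ (wel' σ) = _
      rw [← map_inv, ← map_mul, ← map_mul]
    rw [h2]
    refine h1.trans ?_
    congr 1
    apply Units.ext
    rw [Units.val_mk0, map_one, mul_one, Units.val_inv_eq_inv_val, Units.val_pow_eq_pow_val, hs]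
  rw [e1, e2]
  intro h
  apply hlam
  rw [pow_succ', map_mul, h, map_inv, inv_mul_cancel]

/-- **the defining characteristic** -/
theorem evAt_PG_char {p : ℕ} [hp : Fact p.Prime] (hF : Fintype.card F = q ^ 2) (hq : 3 ≤ q) (hs : ∀ x, σ x = x ^ q)
    (hp2 : p ≠ 2) {k : ℕ} (hqp : q = p ^ k) : EvAt p (PG σ) := by
  intro M hM
  have := Fintype.ofFinite (PG σ)
  obtain ⟨f, hfU, hf⟩ := exists_noninv (σ := σ) hF hq hs
  obtain ⟨u, hu, huX⟩ := (fus (σ := σ) hF hq hs).exists_u
  have hu1 : u ≠ 1 := by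
    rintro rfl
    exact huX (XP σ).one_mem
  have hcU : Nat.card (spP σ).U = p ^ (k * 3) := by rw [card_UP hF hs, hqp, pow_mul]
  have hord : ∀ s ∈ (spP σ).U, ∃ j, orderOf s = p ^ j := by
    intro s hsU
    have h1 : orderOf s ∣ p ^ (k * 3) := by
      rw [← hcU]
      exact Subgroup.orderOf_dvd_natCard _ hsU
    obtain ⟨j, -, hj⟩ := (Nat.dvd_prime_pow hp.out).1 h1
    exact ⟨j, hj⟩
  refine ⟨⟨_, hf⟩, mem_of_selfcent hM ⟨_, hf⟩ u (hord u hu) ?_ ?_, ?_⟩
  · intro s hsu hps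
    obtain ⟨j, hj⟩ := hord s (mem_U_of_comm hu huX hsu)
    rcases Nat.eq_zero_or_pos j with rfl | hj0
    · rw [pow_zero] at hj
      exact orderOf_eq_one_iff.1 hj
    · exfalso
      apply hps
      rw [hj]
      exact dvd_pow_self p hj0.ne'
  · show (spP σ).ps f u ≠ 0
    rw [(spP σ).ps_U f hfU hu hu1]
    exact one_ne_zero
  · have h1 : ((spP σ).ps f) 1 = ((q ^ 3 + 1 : ℕ) : ℂ) := by
      rw [(spP σ).ps_one, card_UP hF hs]
      push_cast
      ring
    show 2 ∣ charDegree ((spP σ).ps f)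
    rw [Cfsg.Agent.Blocks.Basic.charDegree_of_eq h1]
    have h2 : Odd (q ^ 3) := by
      rw [hqp]
      exact ((hp.out.odd_of_ne_two hp2).pow).pow
    obtain ⟨m, hm⟩ := h2
    exact ⟨m + 1, by omega⟩

/-- **the primes dividing `q - 1`** -/
theorem evAt_PG_pred {p : ℕ} [hp : Fact p.Prime] (hF : Fintype.card F = q ^ 2) (hs : ∀ x, σ x = x ^ q)
    (hp2 : p ≠ 2) (hd : p ∣ q - 1) : EvAt p (PG σ) := by
  classical
  have hp3 : 3 ≤ p := by
    have := hp.out.two_le
    omega
  have hcard : Nat.card Fˣ = (q + 1) * (q - 1) := card_units_eq hF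
  obtain ⟨t, ht⟩ := exists_prime_orderOf_dvd_card' (G := Fˣ) p (by rw [hcard]; exact hd.mul_left _)
  have htp : t ^ p = 1 := by rw [← ht]; exact pow_orderOf_eq_one t
  have htq : t ^ (q - 1) = 1 := orderOf_dvd_iff_pow_eq_one.1 (by rw [ht]; exact hd)
  have ht1 : t ≠ 1 := by
    rintro rfl
    rw [orderOf_one] at ht
    omega
  have ht2 : t ≠ t⁻¹ := by
    intro h
    have h1 : t ^ 2 = 1 := by
      rw [sq]
      nth_rw 1 [h]
      exact inv_mul_cancel t
    have h2 := orderOf_dvd_of_pow_eq_one h1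
    rw [ht] at h2
    have := Nat.le_of_dvd (by norm_num) h2
    omega
  have hq1 : 1 ≤ q := by
    rcases Nat.eq_zero_or_pos q with h | h
    · rw [h] at hF
      simp at hF
    · exact h
  have hσt : σ (t : F) = t := by
    rw [hs, ← Units.val_pow_eq_pow_val]
    congr 1
    have : q = (q - 1) + 1 := by omega
    rw [this, pow_succ, htq, one_mul]
  have hrel : (1 : F) * σ 1 = 1 := by rw [map_one, one_mul]
  set Z : GUJ σ := dg (t : F) 1 t.ne_zero hrel with hZ
  have hmZ : mat σ Z = !![(t : F), 0, 0; 0, 1, 0; 0, 0, (t : F)⁻¹] := by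
    rw [hZ, mat_dg, hσt]
  have h10 : (t : F) ≠ 1 := fun h => ht1 (Units.ext h)
  have h12 : (t : F)⁻¹ ≠ 1 := fun h => h10 (inv_eq_one.1 h)
  have h02 : (t : F) ≠ (t : F)⁻¹ := fun h => ht2 (Units.ext (by rw [Units.val_inv_eq_inv_val]; exact h))
  have hdiag : ∀ A : GUJ σ, A * Z = Z * A → A ∈ To σ := by
    intro A hA
    have h1 : ∀ i j, mat σ (A * Z) i j = mat σ (Z * A) i j := fun i j => by rw [hA]
    have key : ∀ {a b x : F}, a ≠ b → x * a = b * x → x = 0 := by
      intro a b x hab h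
      by_contra hne
      exact hab (mul_left_cancel₀ hne (by rw [h]; ring))
    rw [mem_To]
    refine ⟨⟨?_, ?_, ?_⟩, ?_, ?_, ?_⟩
    · have h2 := h1 1 0
      rw [mul_entry, mul_entry, hmZ] at h2
      simp at h2
      exact key h10 (by rw [h2, one_mul])
    · have h2 := h1 2 0
      rw [mul_entry, mul_entry, hmZ] at h2
      simp at h2
      exact key h02 h2
    · have h2 := h1 2 1
      rw [mul_entry, mul_entry, hmZ] at h2
      simp at h2
      exact key h12.symm (by rw [mul_one]; exact h2)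
    · have h2 := h1 0 1
      rw [mul_entry, mul_entry, hmZ] at h2
      simp at h2
      exact key h10.symm (by rw [mul_one]; exact h2)
    · have h2 := h1 0 2
      rw [mul_entry, mul_entry, hmZ] at h2
      simp at h2
      exact key h02.symm h2
    · have h2 := h1 1 2
      rw [mul_entry, mul_entry, hmZ] at h2
      simp at h2
      exact key h12 (by rw [h2, one_mul])
  refine evAt_of_real hp2 (pr σ) (QuotientGroup.mk'_surjective _) ?_ Z ?_ ?_ ?_ ?_
  · intro x hx g
    rw [QuotientGroup.ker_mk'] at hx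
    exact Sc_comm hx g
  · have hpow : ∀ n : ℕ, mat σ (Z ^ n) = !![(t : F) ^ n, 0, 0; 0, 1, 0; 0, 0, ((t : F)⁻¹) ^ n] := by
      intro n
      induction n with
      | zero =>
        rw [pow_zero, mat_one]
        ext i j
        fin_cases i <;> fin_cases j <;> simp
      | succ n ih =>
        rw [pow_succ, mat_mul, ih, hmZ]
        ext i j
        fin_cases i <;> fin_cases j <;> simp [Matrix.mul_apply, Fin.sum_univ_three, pow_succ]
    apply mat_inj
    rw [hpow, mat_one, _root_.inv_pow, ← Units.val_pow_eq_pow_val, htp, Units.val_one]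
    ext i j
    fin_cases i <;> fin_cases j <;> simp
  · intro h
    have h1 := (QuotientGroup.eq_one_iff Z).1 h
    obtain ⟨-, h2, -⟩ := h1
    rw [hmZ] at h2
    exact h10 h2
  · intro a b ha hb
    exact (split' σ).comm a (hdiag a ha) b (hdiag b hb)
  · refine isConj_iff.2 ⟨(pr σ (wel' σ))⁻¹, ?_⟩
    rw [inv_inv, ← map_inv, ← map_inv, ← map_mul, ← map_mul, hZ, wel'_conj_dg]
    congr 1
    rw [eq_inv_iff_mul_eq_one, dg_mul]
    apply mat_inj
    rw [mat_dg, mat_one, hσt, inv_mul_cancel₀ t.ne_zero]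
    ext i j
    fin_cases i <;> fin_cases j <;> simp

/-- linear characters of `PGU(3,q)` are trivial on `PSU(3,q)` -/
theorem lin_S (hF : Fintype.card F = q ^ 2) (hq : 3 ≤ q) (hs : ∀ x, σ x = x ^ q) {χ : PG σ → ℂ}
    (hχ : IsIrrCharacter (PG σ) χ) (h1 : χ 1 = 1) {g : PG σ} (hg : g ∈ S σ) : χ g = 1 := by
  obtain ⟨η, rfl⟩ := Cfsg.Agent.Characters.Linear.exists_hom_of_isIrrCharacter hχ h1
  have h2 := DFunLike.congr_fun (perfect (σ := σ) hF hq hs (η.comp (S σ).subtype)) ⟨g, hg⟩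
  show ((η g : ℂˣ) : ℂ) = 1
  have h3 : η g = 1 := h2
  rw [h3, Units.val_one]

/-- **the primes dividing `q² - q + 1`, `q` odd** -/
theorem evAt_PG_odd {p : ℕ} [hp : Fact p.Prime] (hF : Fintype.card F = q ^ 2) (hq : 3 ≤ q) (hs : ∀ x, σ x = x ^ q)
    (hq2 : Odd q) (hB : ¬ p ∣ Nat.card (spP σ).B) (hq1 : ¬ p ∣ q + 1) (hd : p ∣ Nat.card (S σ)) :
    EvAt p (PG σ) := by
  classical
  intro M hM
  have := Fintype.ofFinite (PG σ)
  have := Fintype.ofFinite (spP σ).U
  have : Finite (IrrCharacter (PG σ)) := finite_irr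
  have := Fintype.ofFinite (IrrCharacter (PG σ))
  have H := fus (σ := σ) hF hq hs
  by_contra hcon
  push Not at hcon
  obtain ⟨u, hu, huX⟩ := H.exists_u
  obtain ⟨x0, hx0, hx01⟩ := H.exists_x
  have hu1 : u ≠ 1 := by
    rintro rfl
    exact huX (XP σ).one_mem
  obtain ⟨x, hx⟩ := exists_prime_orderOf_dvd_card' (G := S σ) p hd
  have hxo : p ∣ orderOf (x : PG σ) := by rw [Subgroup.orderOf_coe, hx]
  have huo : ¬ p ∣ orderOf u := fun h => hB (h.trans (Subgroup.orderOf_dvd_natCard _ ((spP σ).UB hu)))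
  have horth := Blocks.Orthogonality.weak_block_orthogonality hM (principalBlock M (PG σ)) (coeff_ring hM) huo hxo
  -- characters of defect zero
  have hcard := (spP σ).card_G
  rw [card_UP hF hs] at hcard
  have hdz : ∀ {n : ℕ}, q ^ 2 - q + 1 ∣ n → p ^ (Nat.card (PG σ)).factorization p ∣ n := by
    intro n hn
    have h1 : p ^ (Nat.card (PG σ)).factorization p ∣ (q ^ 2 - q + 1) * ((q + 1) * Nat.card (spP σ).B) := by
      have h2 := Nat.ordProj_dvd (Nat.card (PG σ)) p
      have h3 : Nat.card (PG σ) = (q ^ 2 - q + 1) * ((q + 1) * Nat.card (spP σ).B) := by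
        rw [hcard, ← mul_assoc]
        congr 1
        have h4 : q ≤ q ^ 2 := by nlinarith
        zify [h4]
        ring
      rw [← h3]
      exact h2
    have h2 : Nat.Coprime (p ^ (Nat.card (PG σ)).factorization p) ((q + 1) * Nat.card (spP σ).B) := by
      refine Nat.Coprime.pow_left _ ?_
      exact Nat.Coprime.mul_right ((Nat.Prime.coprime_iff_not_dvd hp.out).2 hq1)
        ((Nat.Prime.coprime_iff_not_dvd hp.out).2 hB)
    exact (h2.dvd_of_dvd_mul_right h1).trans hn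
  -- the terms
  have hterm : ∀ χ : IrrCharacter (PG σ), χ ∈ principalBlock M (PG σ) →
      (χ : PG σ → ℂ) u * conj ((χ : PG σ → ℂ) x) = 0 ∨ (χ : PG σ → ℂ) u * conj ((χ : PG σ → ℂ) x) = 1 := by
    intro χ hχ
    have hodd := hcon χ hχ
    obtain ⟨n, m, k, a, b, h1, h2, h3, h4, h5, h6, h7, h8, h9⟩ := H.values χ.2 hx0 hx01 hu huX
    rw [Cfsg.Agent.Blocks.Basic.charDegree_of_eq h1] at hodd
    have hk : k ≠ 0 := by
      rintro rfl
      obtain ⟨r, hr⟩ := hq2
      apply hodd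
      have e1 : (q : ℤ) * m + (q ^ 3 - q) * b = 0 := by
        rw [← h6]
        simp
      have e2 : (n : ℤ) = -((q ^ 3 - q) * b) - (q - 1) * a := by linear_combination e1 - h5
      have e3 : (2 : ℤ) ∣ n := by
        rw [e2, hr]
        push_cast
        refine ⟨-((2 * r + 1) * (2 * r ^ 2 + 2 * r) * b) - r * a, ?_⟩
        ring
      exact_mod_cast e3
    obtain ⟨f, hfU, hf⟩ := exists_ps_of_fixed (spP σ) χ.2 (by
      rw [h4]
      exact_mod_cast hk)
    by_cases hinv : (spP σ).Inv f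
    · obtain ⟨χ1, χ2, hne, hsum, hdeg⟩ := H.exact_degrees f hinv
      -- `χ` is one of the two
      have hχ12 : χ = χ1 ∨ χ = χ2 := by
        by_contra hno
        push Not at hno
        apply hf
        rw [hsum, classInner_add_left, classInner_irr_ne χ1.2 χ.2 (fun h => hno.1 (Subtype.ext h.symm)),
          classInner_irr_ne χ2.2 χ.2 (fun h => hno.2 (Subtype.ext h.symm)), add_zero]
      have hps := (spP σ).ps_U f hfU hu hu1
      rw [hsum, Pi.add_apply] at hps
      rcases hdeg with hd1 | hd1 | ⟨hd1, hd2⟩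
      · have e1 := lin_S hF hq hs χ1.2 hd1 (U_le_S hu)
        have e2 := lin_S hF hq hs χ1.2 hd1 x.2
        rcases hχ12 with rfl | rfl
        · right
          rw [e1, e2, map_one, mul_one]
        · left
          rw [e1] at hps
          have : (χ : PG σ → ℂ) u = 0 := by linear_combination hps
          rw [this, zero_mul]
      · have e1 := lin_S hF hq hs χ2.2 hd1 (U_le_S hu)
        have e2 := lin_S hF hq hs χ2.2 hd1 x.2
        rcases hχ12 with rfl | rfl
        · left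
          rw [e1] at hps
          have : (χ : PG σ → ℂ) u = 0 := by linear_combination hps
          rw [this, zero_mul]
        · right
          rw [e1, e2, map_one, mul_one]
      · left
        have e1 := irr_zero_of_dz χ1.2 hd1 (hdz dvd_rfl) hxo
        have e2 := irr_zero_of_dz χ2.2 hd2 (hdz (Dvd.intro_left _ rfl)) hxo
        rcases hχ12 with rfl | rfl
        · rw [e1, map_zero, mul_zero]
        · rw [e2, map_zero, mul_zero]
    · left
      have hirr : IsIrrCharacter (PG σ) ((spP σ).ps f) := by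
        refine (spP σ).isIrr_ps f ?_
        by_contra hno
        push Not at hno
        exact hinv ⟨hfU, hno⟩
      have he : (χ : PG σ → ℂ) = (spP σ).ps f := by
        by_contra hno
        exact hf (classInner_irr_ne hirr χ.2 fun h => hno h.symm)
      rw [he, ps_sing (spP σ) f hxo hB, map_zero, mul_zero]
  -- the sum
  rw [Blocks.Orthogonality.finsum_mem_eq_sum_filter] at horth
  have hre := congrArg Complex.re horth
  rw [Complex.re_sum, Complex.zero_re] at hre
  have hpos : ∀ χ ∈ Finset.univ.filter (fun χ : IrrCharacter (PG σ) => χ ∈ principalBlock M (PG σ)),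
      0 ≤ ((χ : PG σ → ℂ) u * conj ((χ : PG σ → ℂ) x)).re := by
    intro χ hχ
    rcases hterm χ (Finset.mem_filter.1 hχ).2 with h | h
    · rw [h, Complex.zero_re]
    · rw [h, Complex.one_re]
      exact zero_le_one
  have h1 := (Finset.sum_eq_zero_iff_of_nonneg hpos).1 hre (oneChar (PG σ))
    (Finset.mem_filter.2 ⟨Finset.mem_univ _, one_mem_block hM⟩)
  simp at h1

end model

section succ

open Cfsg.Agent.LieClassical Cfsg.Agent.LieClassical.HermBasic

variable {F : Type} [Field F] [Fintype F] {q p : ℕ}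

theorem exists_unit_succ (hF : Fintype.card F = q ^ 2) {N : ℕ} (hN : N ∣ q + 1) :
    ∃ z : Fˣ, orderOf z = N ∧ z ^ (q + 1) = 1 := by
  obtain ⟨γ, hγ⟩ := IsCyclic.exists_generator (α := Fˣ)
  have hcard : Nat.card Fˣ = (q + 1) * (q - 1) := card_units_eq hF
  have ho : orderOf γ = (q + 1) * (q - 1) := by
    rw [orderOf_eq_card_of_forall_mem_zpowers hγ, hcard]
  obtain ⟨m, hm⟩ := hN
  have hpos : 0 < N * m * (q - 1) := by
    rw [← hm, ← hcard]; exact Nat.card_pos
  refine ⟨γ ^ (m * (q - 1)), ?_, ?_⟩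
  · rw [orderOf_pow, ho, hm, mul_assoc, Nat.gcd_eq_right (Dvd.intro_left _ rfl)]
    refine Nat.mul_div_cancel _ (Nat.pos_of_ne_zero ?_)
    intro h
    rw [mul_assoc, h, mul_zero] at hpos
    exact lt_irrefl _ hpos
  · rw [← pow_mul]
    have : m * (q - 1) * (q + 1) = (q + 1) * (q - 1) * m := by ring
    rw [this, pow_mul, ← ho, pow_orderOf_eq_one, one_pow]

/-- the reflecting element -/
def suW (hF : Fintype.card F = q ^ 2) : Cfsg.SU 3 F q :=
  ⟨⟨!![-1, 0, 0; 0, 0, 1; 0, 1, 0], by simp [Matrix.det_fin_three]⟩, by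
    refine (mem_SU_iff _).2 ?_
    intro u v
    show ∑ i, ((!![-1, 0, 0; 0, 0, 1; 0, 1, 0] : Matrix (Fin 3) (Fin 3) F).mulVec u i) *
      ((!![-1, 0, 0; 0, 0, 1; 0, 1, 0] : Matrix (Fin 3) (Fin 3) F).mulVec v i) ^ q = ∑ i, u i * (v i) ^ q
    rw [Fin.sum_univ_three, Fin.sum_univ_three]
    simp [Matrix.mulVec, dotProduct, Fin.sum_univ_three, neg_pow_q hF]
    ring⟩

theorem coe_suW (hF : Fintype.card F = q ^ 2) :
    (((suW hF : Cfsg.SU 3 F q) : Matrix.SpecialLinearGroup (Fin 3) F) : Matrix (Fin 3) (Fin 3) F) =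
      !![-1, 0, 0; 0, 0, 1; 0, 1, 0] := rfl

/-- **the primes dividing `q + 1`** -/
theorem evAt_succ [hp : Fact p.Prime] (hF : Fintype.card F = q ^ 2) (hp2 : p ≠ 2) (hd : p ∣ q + 1) :
    EvAt p (PSU 3 F q) := by
  classical
  have hp3 : 3 ≤ p := by
    have := hp.out.two_le
    omega
  obtain ⟨ζ, hζ, hζ1⟩ := exists_unit_succ hF hd
  let d : Fin 3 → Fˣ := ![1, ζ, ζ⁻¹]
  have hζl : ζ ^ p = 1 := by rw [← hζ]; exact pow_orderOf_eq_one ζ
  have hζ0 : ζ ≠ 1 := by
    rintro rfl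
    rw [orderOf_one] at hζ
    omega
  have hζ2 : ζ ≠ ζ⁻¹ := by
    intro h
    have h1 : ζ ^ 2 = 1 := by
      rw [sq]
      nth_rw 1 [h]
      exact inv_mul_cancel ζ
    have h2 := orderOf_dvd_of_pow_eq_one h1
    rw [hζ] at h2
    have := Nat.le_of_dvd (by norm_num) h2
    omega
  have hdl : ∀ i, d i ^ p = 1 := by
    intro i
    fin_cases i
    · exact one_pow p
    · exact hζl
    · change ζ⁻¹ ^ p = 1
      rw [inv_pow, hζl, inv_one]
  have hdq : ∀ i, d i ^ (q + 1) = 1 := by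
    intro i
    fin_cases i
    · exact one_pow _
    · exact hζ1
    · change ζ⁻¹ ^ (q + 1) = 1
      rw [inv_pow, hζ1, inv_one]
  have hdinj : Function.Injective d := by
    intro i j h
    have h01 : (1 : Fˣ) ≠ ζ := hζ0.symm
    have h02 : (1 : Fˣ) ≠ ζ⁻¹ := fun h => hζ0 (by rw [eq_comm, inv_eq_one] at h; exact h)
    fin_cases i <;> fin_cases j <;> first
      | rfl
      | exact absurd h h01
      | exact absurd h h02
      | exact absurd h.symm h01
      | exact absurd h.symm h02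
      | exact absurd h hζ2
      | exact absurd h.symm hζ2
  let Z : Cfsg.SU 3 F q := SUBasic.suDiag q (fun i => (d i : F)) (by
    rw [Fin.prod_univ_three]
    change ((1 : Fˣ) : F) * (ζ : F) * ((ζ⁻¹ : Fˣ) : F) = 1
    rw [Units.val_one, one_mul, Units.mul_inv]) (fun i => by
      rw [← Units.val_pow_eq_pow_val, hdq, Units.val_one])
  have hZ : ((Z : Matrix.SpecialLinearGroup (Fin 3) F) : Matrix (Fin 3) (Fin 3) F) =
      Matrix.diagonal (fun i => (d i : F)) := rfl
  have hdiag : ∀ A : Cfsg.SU 3 F q, A * Z = Z * A → ∀ i j, i ≠ j →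
      ((A : Matrix.SpecialLinearGroup (Fin 3) F) : Matrix (Fin 3) (Fin 3) F) i j = 0 := by
    intro A hA i j hij
    have h1 : ((A : Matrix.SpecialLinearGroup (Fin 3) F) : Matrix (Fin 3) (Fin 3) F) *
        Matrix.diagonal (fun i => (d i : F)) = Matrix.diagonal (fun i => (d i : F)) *
        ((A : Matrix.SpecialLinearGroup (Fin 3) F) : Matrix (Fin 3) (Fin 3) F) :=
      congrArg (fun A : Cfsg.SU 3 F q =>
        ((A : Matrix.SpecialLinearGroup (Fin 3) F) : Matrix (Fin 3) (Fin 3) F)) hA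
    have h2 := congrFun (congrFun h1 i) j
    rw [Matrix.mul_diagonal, Matrix.diagonal_mul] at h2
    by_contra hne
    apply hij
    apply hdinj
    apply Units.ext
    apply mul_right_cancel₀ hne
    rw [← h2]; ring
  refine evAt_of_real hp2 (QuotientGroup.mk' (Subgroup.center (Cfsg.SU 3 F q)))
    (QuotientGroup.mk'_surjective _) ?_ Z ?_ ?_ ?_ ?_
  · intro x hx g
    rw [QuotientGroup.ker_mk'] at hx
    exact (Subgroup.mem_center_iff.1 hx g).symm
  · apply Subtype.ext
    apply Subtype.ext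
    change ((Z : Matrix.SpecialLinearGroup (Fin 3) F) ^ p : Matrix.SpecialLinearGroup (Fin 3) F).1 = 1
    rw [Matrix.SpecialLinearGroup.coe_pow, hZ, Matrix.diagonal_pow, ← Matrix.diagonal_one]
    congr 1
    funext i
    rw [Pi.pow_apply, ← Units.val_pow_eq_pow_val, hdl, Units.val_one]
  · intro h
    rw [QuotientGroup.mk'_apply, QuotientGroup.eq_one_iff] at h
    obtain ⟨c, hcn, hcq, hc⟩ := (SUBasic.mem_center_SU_iff hF le_rfl Z).1 h
    have hc' : Matrix.diagonal (fun i => (d i : F)) = Matrix.diagonal (fun _ => c) := by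
      rw [← hZ, hc]
      rfl
    have h0 := congrFun (congrFun hc' 0) 0
    have h1 := congrFun (congrFun hc' 1) 1
    rw [Matrix.diagonal_apply_eq, Matrix.diagonal_apply_eq] at h0 h1
    have : d 0 = d 1 := Units.ext (h0.trans h1.symm)
    exact absurd (hdinj this) (by decide)
  · intro A B hA hB
    have h1 : ∀ A : Cfsg.SU 3 F q, A * Z = Z * A →
        ((A : Matrix.SpecialLinearGroup (Fin 3) F) : Matrix (Fin 3) (Fin 3) F) =
        Matrix.diagonal fun i => ((A : Matrix.SpecialLinearGroup (Fin 3) F) : Matrix (Fin 3) (Fin 3) F) i i := by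
      intro A hA
      ext i j
      by_cases hij : i = j
      · subst hij
        rw [Matrix.diagonal_apply_eq]
      · rw [Matrix.diagonal_apply_ne _ hij, hdiag A hA i j hij]
    apply Subtype.ext
    apply Subtype.ext
    change ((A : Matrix.SpecialLinearGroup (Fin 3) F) : Matrix (Fin 3) (Fin 3) F) *
        ((B : Matrix.SpecialLinearGroup (Fin 3) F) : Matrix (Fin 3) (Fin 3) F) =
        ((B : Matrix.SpecialLinearGroup (Fin 3) F) : Matrix (Fin 3) (Fin 3) F) *
        ((A : Matrix.SpecialLinearGroup (Fin 3) F) : Matrix (Fin 3) (Fin 3) F)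
    rw [h1 A hA, h1 B hB, Matrix.diagonal_mul_diagonal, Matrix.diagonal_mul_diagonal]
    congr 1
    funext i
    ring
  · refine isConj_iff.2 ⟨QuotientGroup.mk' _ (suW hF), ?_⟩
    rw [← map_inv, ← map_inv, ← map_mul, ← map_mul]
    congr 1
    rw [mul_inv_eq_iff_eq_mul]
    have h2 : Z * (suW hF) * Z = suW hF := by
      apply Subtype.ext
      apply Subtype.ext
      change ((Z : Matrix.SpecialLinearGroup (Fin 3) F) : Matrix (Fin 3) (Fin 3) F) *
        (((suW hF : Cfsg.SU 3 F q) : Matrix.SpecialLinearGroup (Fin 3) F) : Matrix (Fin 3) (Fin 3) F) *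
        ((Z : Matrix.SpecialLinearGroup (Fin 3) F) : Matrix (Fin 3) (Fin 3) F) =
        (((suW hF : Cfsg.SU 3 F q) : Matrix.SpecialLinearGroup (Fin 3) F) : Matrix (Fin 3) (Fin 3) F)
      rw [hZ, coe_suW]
      ext i j
      rw [Matrix.mul_diagonal, Matrix.diagonal_mul]
      fin_cases i <;> fin_cases j <;> simp [d]
    rw [eq_inv_mul_iff_mul_eq, ← mul_assoc, h2]

end succ

section row

open Cfsg.Agent.H664.R1 Cfsg.Agent.H664.R1.U3 Cfsg.Agent.LieClassical.HermBasic

/-- **The row of `PSU(3,q)`** -/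
theorem row_psu3 : ∀ (F : Type) [Field F] [Fintype F] (q : ℕ), Fintype.card F = q ^ 2 → q ≠ 2 → Ev (PSU 3 F q) := by
  intro F _ _ q hF hq2 p hp hp2 hd
  have : Fact p.Prime := ⟨hp⟩
  have hq : 3 ≤ q := by
    have h1 : 1 < Fintype.card F := Fintype.one_lt_card
    rw [hF] at h1
    have h2 : q ≠ 0 := by
      rintro rfl
      simp at h1
    have h3 : q ≠ 1 := by
      rintro rfl
      simp at h1
    omega
  obtain ⟨σ, hσ, hs, ⟨e⟩⟩ := exists_iso hF
  have hdS : p ∣ Nat.card (S σ) := by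
    rw [← Nat.card_congr e.toEquiv]
    exact hd
  have hidx : Odd (S σ).index := by
    rcases index_S (σ := σ) hF hq hs with h | ⟨h, -⟩
    · rw [h]; exact odd_one
    · rw [h]; exact ⟨1, rfl⟩
  by_cases h1 : p ∣ q + 1
  · exact evAt_succ hF hp2 h1
  refine EvAt.tr e.symm ?_
  by_cases h2 : p ∣ q - 1
  · exact evAt_down (S σ) hidx (evAt_PG_pred hF hs hp2 h2)
  obtain ⟨r, k, hr, -, hrk, hk⟩ := exists_prime_pow hF
  by_cases h3 : p ∣ q
  · have h4 : p = r := by
      rw [hrk] at h3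
      exact (Nat.prime_dvd_prime_iff_eq hp hr).1 (hp.dvd_of_dvd_pow h3)
    rw [h4] at hp2 ⊢
    have : Fact r.Prime := ⟨hr⟩
    exact evAt_down (S σ) hidx (evAt_PG_char hF hq hs hp2 hrk)
  have hsq : q ^ 2 - 1 = (q + 1) * (q - 1) := by
    have := Nat.sq_sub_sq q 1
    rw [one_pow] at this
    exact this
  have hB : ¬ p ∣ Nat.card (spP σ).B := by
    rw [(spP σ).card_B, card_UP hF hs, card_TP hF hs, hsq]
    intro h
    rcases (Nat.Prime.dvd_mul hp).1 h with h | h
    · exact h3 (hp.dvd_of_dvd_pow h)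
    · rcases (Nat.Prime.dvd_mul hp).1 h with h | h
      · exact h1 h
      · exact h2 h
  rcases Nat.even_or_odd q with hev | hod
  · have hBS : ¬ p ∣ Nat.card (spS σ).B := by
      intro h
      rw [(spS σ).card_B, card_US hF hs] at h
      rcases (Nat.Prime.dvd_mul hp).1 h with h | h
      · exact h3 (hp.dvd_of_dvd_pow h)
      · have h4 := h.trans (card_TS hF hs)
        rw [hsq] at h4
        rcases (Nat.Prime.dvd_mul hp).1 h4 with h | h
        · exact h1 h
        · exact h2 h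
    have := Fintype.ofFinite (S σ)
    refine evAt_of_steinberg (spS σ) hBS hdS ?_
    rw [card_US hF hs]
    exact (even_iff_two_dvd.1 hev).trans (dvd_pow_self q (by norm_num))
  · exact evAt_down (S σ) hidx (evAt_PG_odd hF hq hs hod hB h1 hdS)

end row

end Cfsg.Agent.H906.EP
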